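import Mathlib.Algebra.Polynomial.Taylor
import Mathlib.FieldTheory.Minpoly.Field
import Mathlib.RingTheory.AdjoinRoot
import Mathlib.RingTheory.TensorProduct.Free
import Mathlib.Tactic.LinearCombination

/-!
# Polynomials cutting out finite subgroups of the affine line and of the multiplicative line
-/

set_option autoImplicit false

universe u

open TensorProduct Polynomial

namespace GrothLib.FiniteSub21

variable {k A : Type u} [Field k] [CommRing A] [Algebra k A] (h : A)

/-- The powers of a generator below the degree of its minimal polynomial form a basis. -/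
theorem exists_basis (hint : IsIntegral k h) (hsurj : Function.Surjective (aeval h : k[X] → A)) :
    ∃ b : Module.Basis (Fin (minpoly k h).natDegree) k A, ∀ i, b i = h ^ (i : ℕ) := by
  let ψ : AdjoinRoot (minpoly k h) →ₐ[k] A :=
    AdjoinRoot.liftAlgHom (minpoly k h) (Algebra.ofId k A) h (minpoly.aeval k h)
  have hψmk : ∀ g : k[X], ψ (AdjoinRoot.mk (minpoly k h) g) = aeval h g := fun g => by
    simp [ψ, aeval_def]
  have hbij : Function.Bijective ψ := by
    refine ⟨(injective_iff_map_eq_zero ψ).2 fun x hx => ?_, fun a => ?_⟩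
    · obtain ⟨g, rfl⟩ := AdjoinRoot.mk_surjective x
      rw [hψmk] at hx
      exact AdjoinRoot.mk_eq_zero.2 (minpoly.dvd k h hx)
    · obtain ⟨g, rfl⟩ := hsurj a
      exact ⟨_, hψmk g⟩
  let pb := (AdjoinRoot.powerBasis (minpoly.ne_zero hint)).map (AlgEquiv.ofBijective ψ hbij)
  refine ⟨pb.basis.reindex (finCongr (AdjoinRoot.powerBasis_dim (minpoly.ne_zero hint))), fun i => ?_⟩
  rw [Module.Basis.reindex_apply, pb.basis_eq_pow]
  have hroot : ψ (AdjoinRoot.root (minpoly k h)) = h := by
    rw [← AdjoinRoot.mk_X, hψmk, aeval_X]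
  simp [pb, AdjoinRoot.powerBasis_gen, hroot]

theorem eq_zero_of_eval₂_eq_zero (hint : IsIntegral k h)
    (hsurj : Function.Surjective (aeval h : k[X] → A)) (P : A[X])
    (hdeg : ∀ q, (minpoly k h).natDegree ≤ q → P.coeff q = 0)
    (h0 : eval₂ (Algebra.TensorProduct.includeLeftRingHom : A →+* A ⊗[k] A) (1 ⊗ₜ h) P = 0) : P = 0 := by
  classical
  obtain ⟨b, hb⟩ := exists_basis h hint hsurj
  let n := (minpoly k h).natDegree
  change ∀ q, n ≤ q → P.coeff q = 0 at hdeg
  have hsum : eval₂ (Algebra.TensorProduct.includeLeftRingHom : A →+* A ⊗[k] A) (1 ⊗ₜ h) P =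
      ∑ i : Fin n, P.coeff i • (Algebra.TensorProduct.basis A b) i := by
    rw [eval₂_eq_sum_range' (n := P.natDegree + 1 + n) _ (by omega)]
    rw [← Finset.sum_range (fun i => P.coeff i • ((1 : A) ⊗ₜ[k] h ^ i)) |>.trans
      (Finset.sum_congr rfl fun i _ => by rw [Algebra.TensorProduct.basis_apply, hb, Algebra.TensorProduct.tmul_pow, one_pow])]
    refine (Finset.sum_subset (fun i hi => ?_) fun i _ hi => ?_).symm.trans
      (Finset.sum_congr rfl fun i _ => ?_)
    · simp only [Finset.mem_range] at hi ⊢; omega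
    · simp only [Finset.mem_range, not_lt] at hi
      rw [hdeg i hi, map_zero, zero_mul]
    · simp [Algebra.TensorProduct.tmul_pow, TensorProduct.smul_tmul']
  rw [hsum] at h0
  have h1 := Fintype.linearIndependent_iff.1 (Algebra.TensorProduct.basis A b).linearIndependent _ h0
  refine Polynomial.ext fun q => ?_
  rw [coeff_zero]
  by_cases hq : n ≤ q
  · exact hdeg q hq
  · exact h1 ⟨q, by omega⟩

/-- A subgroup of the affine line is cut out by an additive polynomial. -/
theorem additive_of_tensor [Nontrivial A] (hint : IsIntegral k h) (hsurj : Function.Surjective (aeval h : k[X] → A))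
    (hh : aeval (h ⊗ₜ[k] (1 : A) + (1 : A) ⊗ₜ[k] h) (minpoly k h) = 0)
    (h00 : (minpoly k h).eval 0 = 0) {R : Type u} [CommRing R] (φ : k →+* R) (a c : R) :
    (minpoly k h).eval₂ φ (a + c) = (minpoly k h).eval₂ φ a + (minpoly k h).eval₂ φ c := by
  set f := minpoly k h with hf
  let g : k[X][X] := f.map C
  let D : k[X][X] := taylor X g - C f - g
  have hgm : g.Monic := (minpoly.monic hint).map C
  have hgd : g.natDegree = f.natDegree := natDegree_map_eq_of_injective C_injective _
  have hcoef : ∀ q, (taylor X g).coeff q = hasseDeriv q f := fun q => by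
    rw [taylor_coeff]
    have : hasseDeriv q g = (hasseDeriv q f).map C := by
      ext m
      simp [g, hasseDeriv_coeff]
    rw [this, eval_map, eval₂_C_X]
  have hD0 : D.coeff 0 = 0 := by
    simp only [D, coeff_sub, hcoef, hasseDeriv_zero', coeff_C_zero, g, coeff_map]
    rw [coeff_zero_eq_eval_zero, h00, map_zero]
    ring
  have hDn : ∀ q, f.natDegree ≤ q → D.coeff q = 0 := fun q hq => by
    rcases Nat.eq_or_lt_of_le hq with rfl | hq'
    · have hne : f.natDegree ≠ 0 := (minpoly.natDegree_pos hint).ne'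
      have hlead : f.coeff f.natDegree = 1 := minpoly.monic hint
      simp only [D, coeff_sub, coeff_C, if_neg hne, sub_zero, g, coeff_map, hlead, map_one, hcoef]
      rw [show hasseDeriv f.natDegree f = C (1 : k) by
        rw [eq_C_of_natDegree_eq_zero (p := hasseDeriv f.natDegree f)
          (Nat.le_zero.1 ((natDegree_hasseDeriv_le f _).trans_eq (Nat.sub_self _)))]
        simp [hasseDeriv_coeff, hlead]]
      simp
    · simp only [D, coeff_sub, coeff_C, if_neg (by omega : q ≠ 0), sub_zero, g, coeff_map,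
        coeff_eq_zero_of_natDegree_lt hq', map_zero, hcoef]
      exact hasseDeriv_eq_zero_of_lt_natDegree _ _ hq'
  have hDdeg : ∀ q, (D.coeff q).natDegree < f.natDegree := fun q => by
    rcases Nat.eq_zero_or_pos q with rfl | hq
    · rw [hD0, natDegree_zero]; exact minpoly.natDegree_pos hint
    · simp only [D, coeff_sub, coeff_C, if_neg (by omega : q ≠ 0), sub_zero, g, coeff_map, hcoef]
      refine natDegree_sub_C.trans_lt ?_
      have := natDegree_hasseDeriv_le f q
      have := minpoly.natDegree_pos (A := k) hint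
      rw [← hf] at this
      omega
  have hD : D = 0 := by
    have hP : D.map (aeval (R := k) h).toRingHom = 0 := by
      refine eq_zero_of_eval₂_eq_zero h hint hsurj _ (fun q hq => ?_) ?_
      · rw [coeff_map, hDn q hq, map_zero]
      · rw [eval₂_map]
        simp only [D, eval₂_sub, eval₂_C, g, taylor_apply, eval₂_comp, eval₂_map]
        have e1 : ((Algebra.TensorProduct.includeLeftRingHom : A →+* A ⊗[k] A).comp
            (aeval (R := k) h).toRingHom).comp C = algebraMap k (A ⊗[k] A) := by
          ext r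
          simp [Algebra.TensorProduct.algebraMap_apply]
        rw [e1]
        simp only [eval₂_add, eval₂_X, eval₂_C, ← aeval_def]
        have e2 : ∀ t : k[X], Algebra.TensorProduct.includeLeftRingHom (aeval h t) =
            aeval (h ⊗ₜ[k] (1 : A)) t := fun t =>
          (aeval_algHom_apply (Algebra.TensorProduct.includeLeft : A →ₐ[k] A ⊗[k] A) h t).symm
        simp only [RingHom.comp_apply, AlgHom.toRingHom_eq_coe, RingHom.coe_coe, aeval_X, e2, Algebra.TensorProduct.includeLeftRingHom_apply]
        have z1 : aeval (h ⊗ₜ[k] (1 : A)) f = 0 := by rw [← e2, minpoly.aeval, map_zero]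
        have z2 : aeval ((1 : A) ⊗ₜ[k] h) f = 0 := by
          refine (aeval_algHom_apply (Algebra.TensorProduct.includeRight : A →ₐ[k] A ⊗[k] A) h f).trans ?_
          rw [minpoly.aeval, map_zero]
        rw [add_comm (_ : A ⊗[k] A) (h ⊗ₜ[k] (1 : A)), hh, z1, z2, sub_zero, sub_zero]
    refine Polynomial.ext fun q => ?_
    rw [coeff_zero]
    by_contra hne
    have h1 : aeval h (D.coeff q) = 0 := by simpa using congrArg (fun P : A[X] => P.coeff q) hP
    exact (hDdeg q).not_ge (natDegree_le_of_dvd (minpoly.dvd k h h1) hne)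
  have h2 := congrArg (eval₂ (eval₂RingHom φ a) c) hD
  simp only [D, eval₂_sub, eval₂_C, eval₂_zero, g, taylor_apply, eval₂_comp, eval₂_map, eval₂_add,
    eval₂_X] at h2
  have e3 : (eval₂RingHom φ a).comp C = φ := by ext r; simp
  rw [e3] at h2
  simp only [coe_eval₂RingHom, eval₂_X] at h2
  rw [add_comm a c]
  linear_combination h2

/-- A subgroup of the multiplicative line is cut out by `Xⁿ - 1`. -/
theorem minpoly_eq_of_tensor [Nontrivial A] (hint : IsIntegral k h) (hsurj : Function.Surjective (aeval h : k[X] → A))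
    (hh : aeval (h ⊗ₜ[k] h) (minpoly k h) = 0) (hu : IsUnit h) :
    minpoly k h = X ^ (minpoly k h).natDegree - 1 := by
  classical
  set f := minpoly k h with hf
  set n := f.natDegree with hn
  have hm : f.Monic := minpoly.monic hint
  have hpos : 0 < n := minpoly.natDegree_pos hint
  have h00 : f.coeff 0 ≠ 0 := fun e => by
    obtain ⟨g, hg⟩ := X_dvd_iff.2 e
    have hz : aeval h g = 0 := by
      have := minpoly.aeval k h
      rw [← hf, hg, map_mul, aeval_X] at this
      exact hu.mul_right_eq_zero.1 this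
    have hg0 : g ≠ 0 := fun e0 => hm.ne_zero (by rw [hg, e0, mul_zero])
    have h1 := natDegree_le_of_dvd (minpoly.dvd k h hz) hg0
    have h2 : f.natDegree = 1 + g.natDegree := by rw [hg, natDegree_mul X_ne_zero hg0, natDegree_X]
    rw [← hf] at h1
    omega
  let P : A[X] := ∑ q ∈ Finset.range n, C (algebraMap k A (f.coeff q) * (h ^ q - h ^ n)) * X ^ q
  have hPc : ∀ q, P.coeff q = if q < n then algebraMap k A (f.coeff q) * (h ^ q - h ^ n) else 0 := by
    intro q
    simp only [P, finsetSum_coeff, coeff_C_mul, coeff_X_pow, mul_ite, mul_one, mul_zero, Finset.sum_ite_eq, Finset.mem_range]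
  have hP : P = 0 := by
    refine eq_zero_of_eval₂_eq_zero h hint hsurj P (fun q hq => by rw [hPc, if_neg (by rw [hn, hf]; omega)]) ?_
    have z2 : aeval ((1 : A) ⊗ₜ[k] h) f = 0 := by
      refine (aeval_algHom_apply (Algebra.TensorProduct.includeRight : A →ₐ[k] A ⊗[k] A) h f).trans ?_
      rw [minpoly.aeval, map_zero]
    have lhs : eval₂ (Algebra.TensorProduct.includeLeftRingHom : A →+* A ⊗[k] A) (1 ⊗ₜ h) P =
        ∑ q ∈ Finset.range (n + 1), (algebraMap k (A ⊗[k] A) (f.coeff q) * (h ⊗ₜ h) ^ q -
          (h ^ n) ⊗ₜ[k] (1 : A) * (algebraMap k (A ⊗[k] A) (f.coeff q) * ((1 : A) ⊗ₜ h) ^ q)) := by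
      rw [Finset.sum_range_succ, eval₂_finsetSum]
      refine Eq.trans ?_ (left_eq_add.2 ?_)
      · refine Finset.sum_congr rfl fun q _ => ?_
        rw [eval₂_mul, eval₂_C, eval₂_X_pow]
        simp [Algebra.TensorProduct.tmul_pow, Algebra.TensorProduct.algebraMap_apply, mul_sub,
          Algebra.TensorProduct.tmul_mul_tmul, sub_tmul, mul_comm]
        rw [← sub_tmul, sub_mul]
      · rw [show f.coeff n = 1 from hm, map_one]
        simp [Algebra.TensorProduct.tmul_pow, Algebra.TensorProduct.tmul_mul_tmul]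
    rw [lhs, Finset.sum_sub_distrib, ← Finset.mul_sum]
    have hsum : ∀ x : A ⊗[k] A, aeval x f = ∑ q ∈ Finset.range (n + 1),
        algebraMap k (A ⊗[k] A) (f.coeff q) * x ^ q := fun x => by
      rw [aeval_def, eval₂_eq_sum_range, hn]
    rw [← hsum, ← hsum, hh, z2, mul_zero, sub_zero]
  have key : ∀ q < n, C (f.coeff q) * (X ^ q + (f - X ^ n)) = 0 := by
    intro q hq
    by_contra hne
    have hz : aeval h (C (f.coeff q) * (X ^ q + (f - X ^ n))) = 0 := by
      rw [map_mul, map_add, map_sub, hf, minpoly.aeval, aeval_C, map_pow, map_pow, aeval_X, zero_sub,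
        ← sub_eq_add_neg]
      have := hPc q
      rw [hP, coeff_zero, if_pos hq] at this
      exact this.symm
    have h1 := natDegree_le_of_dvd (minpoly.dvd k h hz) hne
    rw [← hf] at h1
    have h3 : (f - X ^ n).natDegree < n := by
      by_cases e0 : f - X ^ n = 0
      · rw [e0, natDegree_zero]; exact hpos
      · exact (natDegree_lt_iff_degree_lt e0).2 (degree_sub_lt' hm hn)
    have h2 := (natDegree_C_mul_le (f.coeff q) (X ^ q + (f - X ^ n))).trans
      ((natDegree_add_le _ _).trans (max_le_max (natDegree_X_pow_le q) le_rfl))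
    omega
  have k0 := fun j => congrArg (fun t : k[X] => t.coeff j) (key 0 hpos)
  simp only [coeff_C_mul, coeff_add, coeff_sub, coeff_X_pow, coeff_zero] at k0
  have c0 : f.coeff 0 = -1 := by
    have := k0 0
    simp [hpos.ne, hpos.ne'] at this
    rcases this with h | h
    · exact absurd h h00
    · linear_combination h
  refine Polynomial.ext fun j => ?_
  rw [coeff_sub, coeff_X_pow, coeff_one]
  rcases lt_trichotomy j n with hj | rfl | hj
  · rcases Nat.eq_zero_or_pos j with rfl | hj0
    · simp [c0, hpos.ne, hpos.ne']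
    · have := k0 j
      simp [hj0.ne', hj.ne, c0] at this
      simp [hj0.ne', hj.ne, this]
  · simp [hpos.ne', show f.coeff n = 1 from hm]
  · simp [hj.ne', (hpos.trans hj).ne', coeff_eq_zero_of_natDegree_lt (hn ▸ hj)]
where
  degree_sub_lt' {k : Type u} [Field k] {f : k[X]} {n : ℕ} (hm : f.Monic) (hn : n = f.natDegree) :
      (f - X ^ n).degree < (n : WithBot ℕ) := by
    rw [degree_lt_iff_coeff_zero]
    intro m hm'
    rcases eq_or_lt_of_le hm' with rfl | hlt
    · rw [coeff_sub, coeff_X_pow, if_pos rfl, hn, show f.coeff f.natDegree = 1 from hm, sub_self]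
    · rw [coeff_sub, coeff_X_pow, if_neg hlt.ne', coeff_eq_zero_of_natDegree_lt (hn ▸ hlt), sub_zero]

end GrothLib.FiniteSub21
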