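import Groth.Agent.Lib.FiniteSub21.Algebra
import Groth.Agent.Lib.RedPts.GmLaw
import Groth.Prelude.Def_AlgGrp
import Mathlib.AlgebraicGeometry.Morphisms.Flat
import Mathlib.AlgebraicGeometry.Morphisms.Finite
import Mathlib.RingTheory.Flat.TorsionFree
import Mathlib.RingTheory.IntegralClosure.IntegralRestrict

/-!
# Finite subgroup schemes of the additive and of the multiplicative group over a field
-/

set_option autoImplicit false
set_option backward.isDefEq.respectTransparency false

universe u

open CategoryTheory CategoryTheory.Limits MonoidalCategory CartesianMonoidalCategory MonObj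
  AlgebraicGeometry Opposite
open GrothLib.RedPts

namespace GrothLib.FiniteSub21

variable {k : Type u} [Field k]

local notation "S₀" => Spec (CommRingCat.of k)

theorem specOver_hom_ext {R : Type u} [CommRing R] {φ : k →+* R} {T : Over S₀}
    {g g' : T ⟶ specOver φ}
    (h : ∀ r : R, g.left.appTop ((Scheme.ΓSpecIso (CommRingCat.of R)).inv r) =
      g'.left.appTop ((Scheme.ΓSpecIso (CommRingCat.of R)).inv r)) : g = g' := by
  haveI : IsAffine (specOver φ).left := isAffine_Spec _
  ext1
  apply ext_of_isAffine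
  apply (cancel_epi (Scheme.ΓSpecIso (CommRingCat.of R)).inv).mp
  ext r
  exact h r

/-- Points of an affine scheme over a field are ring maps. -/
theorem exists_point {H T : Over S₀} [IsAffine H.left] (ψ : Γ(H.left, ⊤) →+* Γ(T.left, ⊤))
    (hψ : ψ.comp (scal H) = scal T) : ∃ t : T ⟶ H, t.left.appTop.hom = ψ := by
  let t₀ : T.left ⟶ H.left := T.left.toSpecΓ ≫ Spec.map (CommRingCat.ofHom ψ) ≫ H.left.isoSpec.inv
  have ht : t₀.appTop = CommRingCat.ofHom ψ := by
    have e2 : H.left.isoSpec.inv.appTop = (Scheme.ΓSpecIso Γ(H.left, ⊤)).inv := by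
      have h1 : H.left.isoSpec.inv.appTop ≫ H.left.toSpecΓ.appTop = 𝟙 _ := by
        rw [← Scheme.Hom.comp_appTop, ← Scheme.isoSpec_hom, Iso.hom_inv_id, Scheme.Hom.id_appTop]
      rw [Scheme.toSpecΓ_appTop] at h1
      exact ((Iso.comp_hom_eq_id _).1 h1)
    simp only [t₀, Scheme.Hom.comp_appTop, e2, Scheme.toSpecΓ_appTop, Category.assoc]
    rw [← Category.assoc, ← Scheme.ΓSpecIso_inv_naturality, Category.assoc, Iso.inv_hom_id,
      Category.comp_id]
  refine ⟨Over.homMk t₀ (ext_of_isAffine ?_), congrArg CommRingCat.Hom.hom ht⟩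
  apply (cancel_epi (Scheme.ΓSpecIso (CommRingCat.of k)).inv).mp
  rw [Scheme.Hom.comp_appTop, ht]
  exact CommRingCat.hom_ext hψ

/-- The scalars of the tensor square. -/
theorem scal_tensor (R : Type u) [CommRing R] [Algebra k R] :
    (Scheme.ΓSpecIso (CommRingCat.of R)).hom.hom.comp (scal (specOver (algebraMap k R))) =
      algebraMap k R := by
  rw [scal_specOver, ← RingHom.comp_assoc, ← CommRingCat.hom_comp, Iso.inv_hom_id, CommRingCat.hom_id,
    RingHom.id_comp]

/-- Functions over a field form algebras over it. -/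
noncomputable local instance algFn (T : Over S₀) : Algebra k Γ(T.left, ⊤) := (scal T).toAlgebra

section Subgroup


/-- The value at a sum of two universal points of a subgroup of a function vanishing on it vanishes. -/
theorem exists_universal_pair {G H : Over (Spec (CommRingCat.of k))} [GrpObj G] [GrpObj H] [IsAffine H.left] (i : H ⟶ G) [IsMonHom i] :
    ∃ t₁ t₂ : specOver (algebraMap k (TensorProduct k Γ(H.left, ⊤) Γ(H.left, ⊤))) ⟶ H,
      (∀ a, (Scheme.ΓSpecIso (CommRingCat.of (TensorProduct k Γ(H.left, ⊤) Γ(H.left, ⊤)))).hom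
        (t₁.left.appTop a) = a ⊗ₜ[k] (1 : Γ(H.left, ⊤))) ∧
      (∀ a, (Scheme.ΓSpecIso (CommRingCat.of (TensorProduct k Γ(H.left, ⊤) Γ(H.left, ⊤)))).hom
        (t₂.left.appTop a) = (1 : Γ(H.left, ⊤)) ⊗ₜ[k] a) ∧
      (t₁ ≫ i) * (t₂ ≫ i) = (t₁ * t₂) ≫ i := by
  let io := Scheme.ΓSpecIso (CommRingCat.of (TensorProduct k Γ(H.left, ⊤) Γ(H.left, ⊤)))
  have key : ∀ σ : Γ(H.left, ⊤) →ₐ[k] TensorProduct k Γ(H.left, ⊤) Γ(H.left, ⊤),
      ∃ t : specOver (algebraMap k (TensorProduct k Γ(H.left, ⊤) Γ(H.left, ⊤))) ⟶ H,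
        ∀ a, io.hom (t.left.appTop a) = σ a := fun σ => by
    obtain ⟨t, ht⟩ := exists_point (H := H)
      (T := specOver (algebraMap k (TensorProduct k Γ(H.left, ⊤) Γ(H.left, ⊤))))
      (io.inv.hom.comp σ.toRingHom) (by
      rw [scal_specOver, RingHom.comp_assoc]
      exact congrArg io.inv.hom.comp σ.comp_algebraMap)
    refine ⟨t, fun a => ?_⟩
    rw [show t.left.appTop a = io.inv (σ a) from RingHom.congr_fun ht a]
    exact congr($(io.inv_hom_id) (σ a))
  obtain ⟨t₁, h₁⟩ := key Algebra.TensorProduct.includeLeft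
  obtain ⟨t₂, h₂⟩ := key Algebra.TensorProduct.includeRight
  exact ⟨t₁, t₂, h₁, h₂, (MonObj.mul_comp _ _ _).symm⟩

end Subgroup

section Common

open Polynomial

/-- The function of a point on an affine finite subgroup generates its functions. -/
theorem closedImmersion_appTop_surjective {H X : Over S₀} [IsFinite H.hom] [IsAffine X.left]
    (j : H ⟶ X) [Mono j] : Function.Surjective j.left.appTop := by
  haveI : IsAffineHom X.hom := isAffineHom_of_isAffine _
  haveI : IsFinite (j.left ≫ X.hom) := by rw [Over.w]; infer_instance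
  haveI : IsFinite j.left := IsFinite.of_comp j.left X.hom
  haveI : IsClosedImmersion j.left :=
    (IsClosedImmersion.iff_isFinite_and_mono j.left).2 ⟨inferInstance, inferInstance⟩
  exact j.left.app_surjective ⊤ (isAffineOpen_top X.left)

/-- The functions of a finite scheme over a field are finite dimensional. -/
theorem finite_functions (H : Over S₀) [IsFinite H.hom] :
    Module.Finite k Γ(H.left, ⊤) := by
  have h1 : H.hom.appTop.hom.Finite := H.hom.finite_app ⊤ (isAffineOpen_top _)
  have h2 : (Scheme.ΓSpecIso (CommRingCat.of k)).inv.hom.Finite :=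
    RingHom.Finite.of_surjective _
      (ConcreteCategory.bijective_of_isIso (Scheme.ΓSpecIso (CommRingCat.of k)).inv).2
  exact h1.comp h2

theorem flat_of_injective {R A : Type u} [CommRing R] [IsDomain R] [IsDedekindDomain R] [CommRing A]
    [IsDomain A] (τ : R →+* A) (hinj : Function.Injective τ) : τ.Flat := by
  letI := τ.toAlgebra
  show Module.Flat R A
  rw [IsDedekindDomain.flat_iff_torsion_eq_bot, ← Submodule.isTorsionFree_iff_torsion_eq_bot]
  haveI : FaithfulSMul R A := (faithfulSMul_iff_algebraMap_injective _ _).2 hinj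
  infer_instance

theorem hom_eval₂_scal {T T' : Over S₀} (g : T' ⟶ T) (f : k[X]) (a : Γ(T.left, ⊤)) :
    g.left.appTop (f.eval₂ (scal T) a) = f.eval₂ (scal T') (g.left.appTop a) :=
  (hom_eval₂ f (scal T) g.left.appTop.hom a).trans (by rw [appTop_scal])

theorem ringIso_eval₂ (R : Type u) [CommRing R] [Algebra k R] (f : k[X])
    (a : Γ((specOver (algebraMap k R)).left, ⊤)) :
    (Scheme.ΓSpecIso (CommRingCat.of R)).hom (f.eval₂ (scal (specOver (algebraMap k R))) a) =
      aeval ((Scheme.ΓSpecIso (CommRingCat.of R)).hom a) f := by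
  refine (hom_eval₂ f _ (Scheme.ΓSpecIso (CommRingCat.of R)).hom.hom a).trans ?_
  rw [scal_tensor]
  rfl

/-- A factorisation through an affine finite subscheme cut out by `f`. -/
theorem exists_factor {H G T : Over S₀} [IsAffine H.left] (h : Γ(H.left, ⊤))
    (hsurj : Function.Surjective (aeval h : k[X] → Γ(H.left, ⊤)))
    (a : Γ(T.left, ⊤))
    (ha : (minpoly k h).eval₂ (scal T) a = 0) :
    ∃ t : T ⟶ H, t.left.appTop h = a := by
  let χ : Γ(H.left, ⊤) →+* Γ(T.left, ⊤) := (aeval (R := k) h).toRingHom.liftOfSurjective hsurj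
    ⟨(aeval (R := k) a).toRingHom, fun g hg => by
      obtain ⟨c, rfl⟩ := minpoly.dvd k h (p := g) hg
      show aeval a (minpoly k h * c) = 0
      rw [map_mul, aeval_def, show algebraMap k Γ(T.left, ⊤) = scal T from rfl, ha, zero_mul]⟩
  have hχ : ∀ g : k[X], χ (aeval h g) = aeval a g := fun g =>
    RingHom.liftOfSurjective_comp_apply _ hsurj _ g
  obtain ⟨t, ht⟩ := exists_point (T := T) χ (by
    ext c
    have := hχ (C c)
    rwa [aeval_C, aeval_C] at this)
  refine ⟨t, ?_⟩
  rw [show t.left.appTop h = χ h from RingHom.congr_fun ht h]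
  simpa using hχ X

end Common

section Additive

open Polynomial

/-- A finite subgroup scheme of the additive group is the kernel of a flat surjective endomorphism. -/
theorem exists_endo_Ga {H : Over S₀} [GrpObj H] [IsFinite H.hom] (i : H ⟶ Red.Ga S₀)
    [IsMonHom i] [Mono i] :
    ∃ φ : Red.Ga S₀ ⟶ Red.Ga S₀, IsMonHom φ ∧ AlgGrp.IsKernel i φ ∧ Flat φ.left ∧
      Surjective φ.left := by
  let G := Red.Ga S₀
  let io := Scheme.ΓSpecIso (CommRingCat.of k[X])
  let ψ : k[X] →+* Γ(G.left, ⊤) := eval₂RingHom (scal G) (Red.gaFn (𝟙 G))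
  obtain ⟨u, hu⟩ := exists_over_hom (C : k →+* k[X]) G ψ (by ext c; simp [ψ])
  let v : specOver (C : k →+* k[X]) ⟶ G := gaPt (io.inv X)
  have huv : u ≫ v = 𝟙 G := gaFn_injective (by
    rw [gaFn_comp, gaFn_gaPt]
    exact (hu X).trans (eval₂_X _ _))
  have hv : ∀ r : k[X], v.left.appTop (ψ r) = io.inv r := fun r => by
    show v.left.appTop (r.eval₂ (scal G) (Red.gaFn (𝟙 G))) = _
    rw [hom_eval₂_scal, ← gaFn_comp, Category.comp_id, gaFn_gaPt, scal_specOver,
      ← hom_eval₂ r C io.inv.hom X, eval₂_C_X]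
  have hvu : v ≫ u = 𝟙 _ := specOver_hom_ext fun r => by
    rw [Over.comp_left, Scheme.Hom.comp_appTop, CommRingCat.comp_apply, hu, hv]
    rfl
  haveI : IsIso u := ⟨v, huv, hvu⟩
  haveI : IsAffine (specOver (C : k →+* k[X])).left := isAffine_Spec _
  haveI : IsAffineHom H.hom := inferInstance
  haveI : IsAffine H.left := isAffine_of_isAffineHom H.hom
  haveI := finite_functions H
  set h := Red.gaFn i with hdef
  have hsurj : Function.Surjective (aeval h : k[X] → Γ(H.left, ⊤)) := fun a => by
    obtain ⟨b, hb⟩ := closedImmersion_appTop_surjective (i ≫ u) a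
    refine ⟨io.hom b, ?_⟩
    rw [← hb]
    have e : b = io.inv (io.hom b) := (congr($(io.hom_inv_id) b)).symm
    conv_rhs => rw [e]
    rw [Over.comp_left, Scheme.Hom.comp_appTop, CommRingCat.comp_apply, hu]
    show _ = i.left.appTop ((io.hom b).eval₂ (scal G) (Red.gaFn (𝟙 G)))
    rw [hom_eval₂_scal, ← gaFn_comp, Category.comp_id]
    rfl
  have hint : IsIntegral k h := IsIntegral.of_finite k h
  set f := minpoly k h with hf
  have hfh : f.eval₂ (scal H) h = 0 := minpoly.aeval k h
  haveI : Nontrivial Γ((𝟙_ (Over S₀)).left, ⊤) :=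
    (Scheme.ΓSpecIso (CommRingCat.of k)).commRingCatIsoToRingEquiv.toEquiv.nontrivial
  haveI : Nontrivial Γ(H.left, ⊤) := (1 : 𝟙_ (Over S₀) ⟶ H).left.appTop.hom.domain_nontrivial
  -- the unit
  have h00 : f.eval 0 = 0 := by
    have e := hom_eval₂_scal (1 : 𝟙_ (Over S₀) ⟶ H) f h
    rw [hfh, map_zero, hdef, ← gaFn_comp, MonObj.one_comp i, gaFn_one, eval₂_at_zero] at e
    rw [← coeff_zero_eq_eval_zero]
    exact (map_eq_zero_iff _ (scal (𝟙_ (Over S₀))).injective).1 e.symm
  -- additivity
  obtain ⟨t₁, t₂, ht₁, ht₂, hmul⟩ := exists_universal_pair i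
  have hh : aeval (h ⊗ₜ[k] (1 : Γ(H.left, ⊤)) + (1 : Γ(H.left, ⊤)) ⊗ₜ[k] h) f = 0 := by
    have e := hom_eval₂_scal (t₁ * t₂) f h
    rw [hfh, map_zero, hdef, ← gaFn_comp, ← hmul, gaFn_mul, gaFn_comp, gaFn_comp] at e
    have e' := congrArg (Scheme.ΓSpecIso _).hom e
    rw [map_zero, ringIso_eval₂, map_add, ht₁, ht₂] at e'
    exact e'.symm
  have hadd : ∀ {R : Type u} [CommRing R] (φ : k →+* R) (a c : R),
      f.eval₂ φ (a + c) = f.eval₂ φ a + f.eval₂ φ c :=
    fun φ a c => additive_of_tensor h hint hsurj hh h00 φ a c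
  let φ : G ⟶ G := gaPt (ψ f)
  have hφ : ∀ {T : Over S₀} (x : T ⟶ G), Red.gaFn (x ≫ φ) = f.eval₂ (scal T) (Red.gaFn x) :=
    fun x => by
      rw [gaFn_comp, gaFn_gaPt]
      show x.left.appTop (f.eval₂ (scal G) (Red.gaFn (𝟙 G))) = _
      rw [hom_eval₂_scal, ← gaFn_comp, Category.comp_id]
  haveI : IsMonHom φ :=
    { one_hom := gaFn_injective (by
        rw [hφ, MonObj.one_eq_one, gaFn_one, eval₂_at_zero, coeff_zero_eq_eval_zero, h00, map_zero])
      mul_hom := gaFn_injective (by
        rw [hφ, MonObj.mul_eq_mul, gaFn_mul, hadd, MonObj.comp_mul, tensorHom_fst, tensorHom_snd,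
          gaFn_mul, hφ, hφ]) }
  refine ⟨φ, inferInstance, ?_, ?_⟩
  · have hw : i ≫ φ = toUnit H ≫ η[G] := gaFn_injective (by
      rw [hφ, ← hdef, hfh, ← Hom.one_def, gaFn_one])
    have hfac : ∀ s : PullbackCone φ η[G], ∃ t : s.pt ⟶ H, t ≫ i = s.fst := fun s => by
      have h0 : f.eval₂ (scal s.pt) (Red.gaFn s.fst) = 0 := by
        rw [← hφ, s.condition, toUnit_unique s.snd (toUnit _), ← Hom.one_def, gaFn_one]
      obtain ⟨t, ht⟩ := exists_factor (G := G) h hsurj (Red.gaFn s.fst) h0
      exact ⟨t, gaFn_injective ((gaFn_comp t i).trans ht)⟩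
    exact ⟨⟨hw⟩, ⟨PullbackCone.IsLimit.mk hw (fun s => (hfac s).choose) (fun s => (hfac s).choose_spec)
      (fun s => toUnit_unique _ _) fun s m hm _ =>
        (cancel_mono i).1 (hm.trans (hfac s).choose_spec.symm)⟩⟩
  · let τ : k[X] →+* k[X] := eval₂RingHom C f
    have hτ : ∀ r : k[X], τ r = r.comp f := fun r => rfl
    have key : v ≫ φ ≫ u = Over.homMk (Spec.map (CommRingCat.ofHom τ)) (by
        show Spec.map _ ≫ Spec.map _ = Spec.map _
        rw [← Spec.map_comp]
        congr 1
        ext c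
        simp [τ]) := specOver_hom_ext fun r => by
      rw [Over.comp_left, Over.comp_left, Scheme.Hom.comp_appTop, Scheme.Hom.comp_appTop,
        CommRingCat.comp_apply, CommRingCat.comp_apply, hu]
      show v.left.appTop (φ.left.appTop (r.eval₂ (scal G) (Red.gaFn (𝟙 G)))) = _
      rw [hom_eval₂_scal, ← gaFn_comp, Category.comp_id, gaFn_gaPt, hom_eval₂_scal, hv]
      refine Eq.trans ?_ (congr($(Scheme.ΓSpecIso_inv_naturality (CommRingCat.ofHom τ)) r))
      rw [scal_specOver, ← hom_eval₂ r C io.inv.hom f]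
      rfl
    have e : φ.left = u.left ≫ Spec.map (CommRingCat.ofHom τ) ≫ v.left := by
      have := congrArg (fun t => (u ≫ t ≫ v).left) key
      simp only [Category.assoc, reassoc_of% huv, huv, Category.comp_id] at this
      exact this
    have hdeg : 1 ≤ f.natDegree := minpoly.natDegree_pos hint
    have hinj : Function.Injective τ := fun a b hab => by
      by_contra hne
      have h0 : (a - b).comp f = 0 := by
        rw [← hτ, map_sub, hab, sub_self]
      rcases comp_eq_zero_iff.1 h0 with h1 | ⟨-, h1⟩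
      · exact hne (sub_eq_zero.1 h1)
      · have := congrArg natDegree h1
        rw [natDegree_C] at this
        omega
    have hflat : τ.Flat := flat_of_injective τ hinj
    have hintg : τ.IsIntegral := fun p => by
      let g := (f.map (C : k →+* k[X])) - C X
      have hgm : g.Monic := Monic.sub_of_left ((minpoly.monic hint).map _) (by
        rw [degree_map_eq_of_injective C_injective, degree_eq_natDegree (minpoly.ne_zero hint)]
        exact degree_C_le.trans_lt (by exact_mod_cast hdeg))
      have hX : τ.IsIntegralElem X := ⟨g, hgm, by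
        simp [g, τ, eval₂_map]
        ⟩
      induction p using Polynomial.induction_on with
      | C a => exact (show τ (C a) = C a by simp [τ]) ▸ τ.isIntegralElem_map
      | add p q hp hq => exact RingHom.IsIntegralElem.add τ hp hq
      | monomial n a ih =>
        rw [pow_succ, ← _root_.mul_assoc]
        exact RingHom.IsIntegralElem.mul τ ih hX
    haveI : Flat (Spec.map (CommRingCat.ofHom τ)) := Flat.SpecMap_iff.2 hflat
    haveI : Surjective (Spec.map (CommRingCat.ofHom τ)) :=
      ⟨RingHom.IsIntegral.comap_surjective hintg hinj⟩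
    haveI : IsIso u.left := inferInstanceAs (IsIso ((Over.forget S₀).map u))
    haveI : IsIso v := ⟨u, hvu, huv⟩
    haveI : IsIso v.left := inferInstanceAs (IsIso ((Over.forget S₀).map v))
    rw [e]
    exact ⟨inferInstance, inferInstance⟩

end Additive

section Multiplicative

open Polynomial
open scoped LaurentPolynomial

theorem laurent_ringHom_ext {R : Type u} [CommRing R] {f g : k[T;T⁻¹] →+* R}
    (hC : ∀ a, f (LaurentPolynomial.C a) = g (LaurentPolynomial.C a))
    (hT : f (LaurentPolynomial.T 1) = g (LaurentPolynomial.T 1)) : f = g := by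
  apply IsLocalization.ringHom_ext (Submonoid.powers (X : k[X]))
  apply Polynomial.ringHom_ext
  · intro a
    simpa [LaurentPolynomial.algebraMap_eq_toLaurent] using hC a
  · simpa [LaurentPolynomial.algebraMap_eq_toLaurent] using hT

/-- A finite subgroup scheme of the multiplicative group is the kernel of a power map. -/
theorem exists_endo_Gm {H : Over S₀} [GrpObj H] [IsFinite H.hom] (i : H ⟶ Red.Gm S₀)
    [IsMonHom i] [Mono i] :
    ∃ φ : Red.Gm S₀ ⟶ Red.Gm S₀, IsMonHom φ ∧ AlgGrp.IsKernel i φ ∧ Flat φ.left ∧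
      Surjective φ.left := by
  let G := Red.Gm S₀
  let io := Scheme.ΓSpecIso (CommRingCat.of k[T;T⁻¹])
  let ψ : k[T;T⁻¹] →+* Γ(G.left, ⊤) := LaurentPolynomial.eval₂ (scal G) (GmPts.unitOfPt (𝟙 G))
  obtain ⟨u, hu⟩ := exists_over_hom (LaurentPolynomial.C : k →+* k[T;T⁻¹]) G ψ
    (by ext c; simp [ψ])
  let uT : (Γ((specOver (LaurentPolynomial.C : k →+* k[T;T⁻¹])).left, ⊤))ˣ :=
    Units.map io.inv.hom.toMonoidHom (LaurentPolynomial.isUnit_T (R := k) 1).unit
  let v : specOver (LaurentPolynomial.C : k →+* k[T;T⁻¹]) ⟶ G := GmPts.ptOfUnit uT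
  have hψT : ψ (LaurentPolynomial.T 1) = Red.gmFn (𝟙 G) := by
    simp [ψ, GmPts.val_unitOfPt]
  have huv : u ≫ v = 𝟙 G := GmPts.gmFn_injective (by
    show Red.gmFn (u ≫ v) = Red.gmFn (𝟙 G)
    rw [GmPts.gmFn_comp, GmPts.gmFn_ptOfUnit]
    exact (hu (LaurentPolynomial.T 1)).trans hψT)
  have hv : ∀ r : k[T;T⁻¹], v.left.appTop (ψ r) = io.inv r := fun r => by
    refine RingHom.congr_fun (f := v.left.appTop.hom.comp ψ) (g := io.inv.hom)
      (laurent_ringHom_ext (fun a => ?_) ?_) r
    · show v.left.appTop (ψ (LaurentPolynomial.C a)) = _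
      rw [show ψ (LaurentPolynomial.C a) = scal G a by simp [ψ]]
      refine (RingHom.congr_fun (appTop_scal v) a).trans ?_
      rw [scal_specOver]
      rfl
    · show v.left.appTop (ψ (LaurentPolynomial.T 1)) = _
      rw [hψT, ← GmPts.gmFn_comp, Category.comp_id, GmPts.gmFn_ptOfUnit]
      rfl
  have hvu : v ≫ u = 𝟙 _ := specOver_hom_ext fun r => by
    rw [Over.comp_left, Scheme.Hom.comp_appTop, CommRingCat.comp_apply, hu, hv]
    rfl
  haveI : IsIso u := ⟨v, huv, hvu⟩
  haveI : IsAffine (specOver (LaurentPolynomial.C : k →+* k[T;T⁻¹])).left := isAffine_Spec _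
  haveI : IsAffine H.left := isAffine_of_isAffineHom H.hom
  haveI := finite_functions H
  haveI : Nontrivial Γ((𝟙_ (Over S₀)).left, ⊤) :=
    (Scheme.ΓSpecIso (CommRingCat.of k)).commRingCatIsoToRingEquiv.toEquiv.nontrivial
  haveI : Nontrivial Γ(H.left, ⊤) := (1 : 𝟙_ (Over S₀) ⟶ H).left.appTop.hom.domain_nontrivial
  set h := Red.gmFn i with hdef
  have hhu : IsUnit h := GmPts.isUnit_gmFn i
  have hint : IsIntegral k h := IsIntegral.of_finite k h
  -- the inverse is a polynomial
  obtain ⟨q, hq⟩ : ∃ q : k[X], h * aeval h q = 1 := by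
    let R := (aeval (R := k) h : k[X] →ₐ[k] Γ(H.left, ⊤)).range
    let m : R →ₗ[k] R := LinearMap.mulLeft k ⟨h, X, aeval_X h⟩
    have hm : Function.Injective m := fun a b hab =>
      Subtype.ext (hhu.mul_left_cancel (congrArg Subtype.val hab))
    obtain ⟨⟨y, q, rfl⟩, hy⟩ := LinearMap.injective_iff_surjective.1 hm 1
    exact ⟨q, congrArg Subtype.val hy⟩
  have hsurj : Function.Surjective (aeval h : k[X] → Γ(H.left, ⊤)) := fun a => by
    obtain ⟨b, hb⟩ := closedImmersion_appTop_surjective (i ≫ u) a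
    obtain ⟨r, rfl⟩ : ∃ r, io.inv r = b := ⟨io.hom b, congr($(io.hom_inv_id) b)⟩
    rw [← hb, Over.comp_left, Scheme.Hom.comp_appTop, CommRingCat.comp_apply, hu]
    clear hb
    have key : ∀ r : k[T;T⁻¹], i.left.appTop.hom.comp ψ r ∈
        (aeval (R := k) h : k[X] →ₐ[k] Γ(H.left, ⊤)).range.toSubring := fun r => by
      induction r using LaurentPolynomial.induction_on_mul_T with
      | _ p m =>
      rw [map_mul]
      refine mul_mem ?_ ?_
      · induction p using Polynomial.induction_on with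
        | C a =>
          refine ⟨C a, ?_⟩
          show aeval h (C a) = i.left.appTop (ψ _)
          rw [aeval_C, show ψ (Polynomial.toLaurent (C a)) = scal G a by simp [ψ]]
          exact (RingHom.congr_fun (appTop_scal i) a).symm
        | add p q hp hq => rw [map_add, map_add]; exact add_mem hp hq
        | monomial j a ih =>
          rw [pow_succ, ← _root_.mul_assoc, map_mul, map_mul]
          refine mul_mem ih ((AlgHom.mem_range _).2 ⟨X, ?_⟩)
          show aeval h X = i.left.appTop (ψ _)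
          rw [aeval_X, Polynomial.toLaurent_X, hψT, ← GmPts.gmFn_comp, Category.comp_id]
      · rw [show LaurentPolynomial.T (-(m : ℤ)) = (LaurentPolynomial.T (-1) : k[T;T⁻¹]) ^ m by
          rw [LaurentPolynomial.T_pow]; simp, map_pow]
        refine pow_mem ((AlgHom.mem_range _).2 ⟨q, ?_⟩) m
        show aeval h q = i.left.appTop (ψ (LaurentPolynomial.T (-1)))
        apply hhu.mul_left_cancel
        rw [hq, hdef, ← Category.comp_id i, GmPts.gmFn_comp, ← hψT, Category.comp_id, ← map_mul,
          ← map_mul, ← LaurentPolynomial.T_add]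
        simp
        exact ((i.left.appTop.hom.comp ψ).map_one).symm
    obtain ⟨g, hg⟩ := key r
    exact ⟨g, hg⟩
  set f := minpoly k h with hf
  set n := f.natDegree with hn
  have hn0 : 0 < n := minpoly.natDegree_pos hint
  obtain ⟨t₁, t₂, ht₁, ht₂, hmul⟩ := exists_universal_pair i
  have hh : aeval (h ⊗ₜ[k] h) f = 0 := by
    have e := hom_eval₂_scal (t₁ * t₂) f h
    have hfh : f.eval₂ (scal H) h = 0 := minpoly.aeval k h
    rw [hfh, map_zero, hdef, ← GmPts.gmFn_comp, ← hmul, GmPts.gmFn_mul, GmPts.gmFn_comp,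
      GmPts.gmFn_comp] at e
    have e' := congrArg (Scheme.ΓSpecIso _).hom e
    rw [map_zero, ringIso_eval₂, map_mul, ht₁, ht₂, Algebra.TensorProduct.tmul_mul_tmul, _root_.mul_one,
      _root_.one_mul] at e'
    exact e'.symm
  have hform : f = X ^ n - 1 := minpoly_eq_of_tensor h hint hsurj hh hhu
  have hhn : h ^ n = 1 := by
    have := minpoly.aeval k h
    rw [← hf, hform, map_sub, map_pow, aeval_X, map_one, sub_eq_zero] at this
    exact this
  let φ : G ⟶ G := GmPts.ptOfUnit (GmPts.unitOfPt (𝟙 G) ^ n)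
  have hφ : ∀ {T : Over S₀} (x : T ⟶ G), Red.gmFn (x ≫ φ) = Red.gmFn x ^ n := fun x => by
    rw [GmPts.gmFn_comp, GmPts.gmFn_ptOfUnit, Units.val_pow_eq_pow_val, GmPts.val_unitOfPt, map_pow,
      ← GmPts.gmFn_comp, Category.comp_id]
  haveI : IsMonHom φ :=
    { one_hom := GmPts.gmFn_injective (by
        show Red.gmFn (η ≫ φ) = Red.gmFn η
        rw [hφ, MonObj.one_eq_one, GmPts.gmFn_one, one_pow])
      mul_hom := GmPts.gmFn_injective (by
        show Red.gmFn (μ ≫ φ) = Red.gmFn ((φ ⊗ₘ φ) ≫ μ)
        rw [hφ, MonObj.mul_eq_mul, GmPts.gmFn_mul, mul_pow, MonObj.comp_mul, tensorHom_fst,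
          tensorHom_snd, GmPts.gmFn_mul, hφ, hφ]) }
  refine ⟨φ, inferInstance, ?_, ?_⟩
  · have hw : i ≫ φ = toUnit H ≫ η[G] := GmPts.gmFn_injective (by
      show Red.gmFn (i ≫ φ) = Red.gmFn (toUnit H ≫ η[G])
      rw [hφ, ← hdef, hhn, ← Hom.one_def, GmPts.gmFn_one])
    have hfac : ∀ s : PullbackCone φ η[G], ∃ t : s.pt ⟶ H, t ≫ i = s.fst := fun s => by
      have h0 : f.eval₂ (scal s.pt) (Red.gmFn s.fst) = 0 := by
        rw [hform, eval₂_sub, eval₂_pow, eval₂_X, eval₂_one, ← hφ, s.condition,
          toUnit_unique s.snd (toUnit _), ← Hom.one_def, GmPts.gmFn_one, sub_self]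
      obtain ⟨t, ht⟩ := exists_factor (G := G) h hsurj (Red.gmFn s.fst) h0
      exact ⟨t, GmPts.gmFn_injective ((GmPts.gmFn_comp t i).trans ht)⟩
    exact ⟨⟨hw⟩, ⟨PullbackCone.IsLimit.mk hw (fun s => (hfac s).choose) (fun s => (hfac s).choose_spec)
      (fun s => toUnit_unique _ _) fun s m hm _ =>
        (cancel_mono i).1 (hm.trans (hfac s).choose_spec.symm)⟩⟩
  · let τ : k[T;T⁻¹] →+* k[T;T⁻¹] := LaurentPolynomial.eval₂ LaurentPolynomial.C
      ((LaurentPolynomial.isUnit_T (R := k) 1).unit ^ n)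
    have hτC : ∀ a : k, τ (LaurentPolynomial.C a) = LaurentPolynomial.C a := fun a => by simp [τ]
    have hτT : τ (LaurentPolynomial.T 1) = LaurentPolynomial.T 1 ^ n := by simp [τ]
    have key : v ≫ φ ≫ u = Over.homMk (Spec.map (CommRingCat.ofHom τ)) (by
        show Spec.map _ ≫ Spec.map _ = Spec.map _
        rw [← Spec.map_comp]
        congr 1
        exact CommRingCat.hom_ext (RingHom.ext hτC)) := specOver_hom_ext fun r => by
      rw [Over.comp_left, Over.comp_left, Scheme.Hom.comp_appTop, Scheme.Hom.comp_appTop,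
        CommRingCat.comp_apply, CommRingCat.comp_apply, hu]
      refine Eq.trans ?_ (congr($(Scheme.ΓSpecIso_inv_naturality (CommRingCat.ofHom τ)) r))
      refine RingHom.congr_fun (f := (v.left.appTop.hom.comp φ.left.appTop.hom).comp ψ)
        (g := io.inv.hom.comp τ) (laurent_ringHom_ext (fun a => ?_) ?_) r
      · show v.left.appTop (φ.left.appTop (ψ _)) = io.inv (τ _)
        rw [show ψ (LaurentPolynomial.C a) = scal G a by simp [ψ], hτC]
        refine (congrArg v.left.appTop (RingHom.congr_fun (appTop_scal φ) a)).trans ?_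
        refine (RingHom.congr_fun (appTop_scal v) a).trans ?_
        rw [scal_specOver]
        rfl
      · show v.left.appTop (φ.left.appTop (ψ _)) = io.inv (τ _)
        rw [hψT, ← GmPts.gmFn_comp, Category.comp_id, ← GmPts.gmFn_comp, hφ, GmPts.gmFn_ptOfUnit, hτT,
          map_pow]
        rfl
    have e : φ.left = u.left ≫ Spec.map (CommRingCat.ofHom τ) ≫ v.left := by
      have := congrArg (fun t => (u ≫ t ≫ v).left) key
      simp only [Category.assoc, reassoc_of% huv, huv, Category.comp_id] at this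
      exact this
    have hτp : ∀ p : k[X], τ (Polynomial.toLaurent p) = Polynomial.toLaurent (expand k n p) :=
      fun p => RingHom.congr_fun (f := τ.comp Polynomial.toLaurent)
        (g := Polynomial.toLaurent.comp (expand k n).toRingHom)
        (Polynomial.ringHom_ext (fun a => by simp [hτC]) (by simp [hτT, map_pow])) p
    have hinj : Function.Injective τ := (injective_iff_map_eq_zero τ).2 fun r hr => by
      induction r using LaurentPolynomial.induction_on_mul_T with
      | _ p m =>
      rw [map_mul, hτp] at hr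
      have h1 := ((LaurentPolynomial.isUnit_T (R := k) (-(m : ℤ))).map τ).mul_left_eq_zero.1 hr
      rw [show p = 0 from expand_injective hn0
        ((Polynomial.toLaurent_injective (h1.trans (map_zero _).symm)).trans (map_zero _).symm),
        map_zero, zero_mul]
    have hflat : τ.Flat := by
      have h1 := flat_of_injective (τ.comp (algebraMap k[X] k[T;T⁻¹]))
        (hinj.comp fun a b hab => Polynomial.toLaurent_injective (by simpa [LaurentPolynomial.algebraMap_eq_toLaurent] using hab))
      exact flat_of_comp_away τ h1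
    have hT : ∀ j : ℤ, τ.IsIntegralElem (LaurentPolynomial.T j) := fun j => by
      refine ⟨X ^ n - C (LaurentPolynomial.T j), monic_X_pow_sub_C _ hn0.ne', ?_⟩
      rw [eval₂_sub, eval₂_pow, eval₂_X, eval₂_C, sub_eq_zero]
      simp only [τ, LaurentPolynomial.eval₂_T]
      rw [LaurentPolynomial.T_pow, ← zpow_natCast, ← zpow_mul, val_T_zpow]
    have hintg : τ.IsIntegral := fun r => by
      induction r using LaurentPolynomial.induction_on' with
      | add p q hp hq => exact RingHom.IsIntegralElem.add τ hp hq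
      | C_mul_T j a =>
        refine RingHom.IsIntegralElem.mul τ ?_ (hT j)
        rw [← hτC a]
        exact τ.isIntegralElem_map
    haveI : Flat (Spec.map (CommRingCat.ofHom τ)) := Flat.SpecMap_iff.2 hflat
    haveI : Surjective (Spec.map (CommRingCat.ofHom τ)) :=
      ⟨RingHom.IsIntegral.comap_surjective hintg hinj⟩
    haveI : IsIso u.left := inferInstanceAs (IsIso ((Over.forget S₀).map u))
    haveI : IsIso v := ⟨u, hvu, huv⟩
    haveI : IsIso v.left := inferInstanceAs (IsIso ((Over.forget S₀).map v))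
    rw [e]
    exact ⟨inferInstance, inferInstance⟩
where
  flat_of_comp_away {A : Type u} [CommRing A] (τ : k[T;T⁻¹] →+* A)
      (h : (τ.comp (algebraMap k[X] k[T;T⁻¹])).Flat) : τ.Flat := by
    letI := τ.toAlgebra
    letI := (τ.comp (algebraMap k[X] k[T;T⁻¹])).toAlgebra
    haveI : IsScalarTower k[X] k[T;T⁻¹] A := IsScalarTower.of_algebraMap_eq fun _ => rfl
    exact (Module.flat_iff_of_isLocalization k[T;T⁻¹] (Submonoid.powers (X : k[X])) A).2 h
  val_T_zpow (z : ℤ) : (((LaurentPolynomial.isUnit_T (R := k) 1).unit ^ z : (k[T;T⁻¹])ˣ) : k[T;T⁻¹]) =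
      LaurentPolynomial.T z := by
    induction z using Int.induction_on with
    | zero => simp [LaurentPolynomial.T_zero]
    | succ i hi => rw [zpow_add_one, Units.val_mul, hi, LaurentPolynomial.T_add]; rfl
    | pred i hi =>
      apply (LaurentPolynomial.isUnit_T (R := k) 1).mul_left_inj.1
      rw [← LaurentPolynomial.T_add, sub_add_cancel, ← hi, zpow_sub_one, Units.val_mul,
        _root_.mul_assoc]
      exact (congrArg _ (Units.inv_mul _)).trans (_root_.mul_one _)

end Multiplicative

end GrothLib.FiniteSub21
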